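import Cfsg.Agent.H178.RG.Defs

/-!
# S5714 (TEAM RG), A3: typical elements in central quotients and in subgroups
-/

set_option autoImplicit false

namespace Cfsg.Agent.H458.RG

open Cfsg Cfsg.Agent.H178.RG

theorem card_mul_rel {G : Type} [Group G] {A B : Subgroup G} (h : A ≤ B) :
    Nat.card A * A.relIndex B = Nat.card B := by
  rw [← Subgroup.relIndex_bot_left, ← Subgroup.relIndex_bot_left]
  exact Subgroup.relIndex_mul_relIndex ⊥ A B bot_le h

/-- the centralizer in a central quotient is not larger -/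
theorem card_centralizer_quot {H : Type} [Group H] [Finite H] (Z : Subgroup H) [Z.Normal]
    (hZ : Z ≤ Subgroup.center H) (w : H) :
    Nat.card (Subgroup.centralizer ({(w : H ⧸ Z)} : Set (H ⧸ Z))) ≤ Nat.card (Subgroup.centralizer ({w} : Set H)) := by
  set P : Subgroup H := (Subgroup.centralizer ({(w : H ⧸ Z)} : Set (H ⧸ Z))).comap (QuotientGroup.mk' Z) with hP
  have hmem : ∀ y : H, y ∈ P ↔ y * w * y⁻¹ * w⁻¹ ∈ Z := by
    intro y
    rw [hP, Subgroup.mem_comap, Subgroup.mem_centralizer_singleton_iff, QuotientGroup.mk'_apply,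
      ← QuotientGroup.mk_mul, ← QuotientGroup.mk_mul, eq_comm, QuotientGroup.eq]
    constructor
    · intro h
      have h1 := hZ h
      have h2 : y * w * y⁻¹ * w⁻¹ = (w * y)⁻¹ * (y * w) := by
        have h3 := Subgroup.mem_center_iff.mp h1 (w * y)
        have h4 : (w * y) * ((w * y)⁻¹ * (y * w)) = y * w := by group
        rw [h4] at h3
        have h5 : y * w * y⁻¹ * w⁻¹ = (y * w) * (w * y)⁻¹ := by group
        rw [h5]
        calc y * w * (w * y)⁻¹ = ((w * y)⁻¹ * (y * w) * (w * y)) * (w * y)⁻¹ := by rw [← h3]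
          _ = (w * y)⁻¹ * (y * w) := by group
      rw [h2]
      exact h
    · intro h
      have h1 := hZ h
      have h2 := Subgroup.mem_center_iff.mp h1 (w * y)
      have h3 : (w * y)⁻¹ * (y * w) = y * w * y⁻¹ * w⁻¹ := by
        have h4 : y * w * y⁻¹ * w⁻¹ * (w * y) = y * w := by group
        rw [h4] at h2
        calc (w * y)⁻¹ * (y * w) = (w * y)⁻¹ * (w * y * (y * w * y⁻¹ * w⁻¹)) := by rw [h2]
          _ = y * w * y⁻¹ * w⁻¹ := by group
      rw [h3]
      exact h
  -- the commutator homomorphism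
  let f : P →* Z :=
    { toFun := fun y => ⟨(y : H) * w * (y : H)⁻¹ * w⁻¹, (hmem y).mp y.2⟩
      map_one' := Subtype.ext (by simp)
      map_mul' := by
        intro a b
        refine Subtype.ext ?_
        show ((a : H) * b) * w * ((a : H) * b)⁻¹ * w⁻¹ = (a * w * (a : H)⁻¹ * w⁻¹) * (b * w * (b : H)⁻¹ * w⁻¹)
        have h1 := Subgroup.mem_center_iff.mp (hZ ((hmem b).mp b.2)) (a : H)
        have h2 := Subgroup.mem_center_iff.mp (hZ ((hmem b).mp b.2)) ((a : H) * w * (a : H)⁻¹ * w⁻¹)
        rw [h2]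
        calc ((a : H) * b) * w * ((a : H) * b)⁻¹ * w⁻¹ =
            ((a : H) * ((b : H) * w * (b : H)⁻¹ * w⁻¹)) * (w * (a : H)⁻¹ * w⁻¹) := by group
          _ = (((b : H) * w * (b : H)⁻¹ * w⁻¹) * a) * (w * (a : H)⁻¹ * w⁻¹) := by rw [h1]
          _ = _ := by group }
  have hker : Nat.card f.ker ≤ Nat.card (Subgroup.centralizer ({w} : Set H)) := by
    refine Nat.card_le_card_of_injective (fun y : f.ker => (⟨((y : P) : H), ?_⟩ :
      Subgroup.centralizer ({w} : Set H))) ?_
    · have h1 : f (y : P) = 1 := y.2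
      have h2 : ((y : P) : H) * w * ((y : P) : H)⁻¹ * w⁻¹ = 1 := congrArg Subtype.val h1
      rw [Subgroup.mem_centralizer_singleton_iff]
      have h3 := mul_inv_eq_one.mp h2
      rw [mul_inv_eq_iff_eq_mul] at h3
      exact h3
    · intro a b hab
      have h9 : ((a : P) : H) = ((b : P) : H) := by
        simpa only [Subtype.mk.injEq] using hab
      exact Subtype.ext (Subtype.ext h9)
  have hrange : Nat.card f.range ≤ Nat.card Z := Nat.card_le_card_of_injective _ Subtype.val_injective
  have hcard : Nat.card P = Nat.card f.ker * Nat.card f.range := by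
    rw [← Subgroup.index_ker, Subgroup.card_mul_index]
  have hP2 : Nat.card P = Nat.card Z * Nat.card (Subgroup.centralizer ({(w : H ⧸ Z)} : Set (H ⧸ Z))) := by
    have h1 := Subgroup.card_mul_index P
    have h2 := Subgroup.card_mul_index (Subgroup.centralizer ({(w : H ⧸ Z)} : Set (H ⧸ Z)))
    have h3 : P.index = (Subgroup.centralizer ({(w : H ⧸ Z)} : Set (H ⧸ Z))).index :=
      Subgroup.index_comap_of_surjective _ (QuotientGroup.mk'_surjective Z)
    have h4 := Subgroup.card_eq_card_quotient_mul_card_subgroup Z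
    have h5 : P.index ≠ 0 := Subgroup.index_ne_zero_of_finite
    rw [h3] at h1 h5
    refine Nat.eq_of_mul_eq_mul_right (Nat.pos_of_ne_zero h5) ?_
    rw [h1, mul_assoc, h2, h4, mul_comm]
  have hZ0 : 0 < Nat.card Z := Nat.card_pos
  refine Nat.le_of_mul_le_mul_left ?_ hZ0
  rw [← hP2, hcard, mul_comm (Nat.card Z)]
  exact Nat.mul_le_mul hker hrange

theorem typ_quot {H : Type} [Group H] [Finite H] (Z : Subgroup H) [Z.Normal] (hZ : Z ≤ Subgroup.center H) {B η : ℝ}
    {J : ℕ} (h : Typ H B J η) : Typ (H ⧸ Z) B J η := by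
  have h1 : ∀ x : H, Nice B J x → Nice B J (x : H ⧸ Z) := by
    intro x hx j hj hjJ
    have h2 : ((x : H ⧸ Z)) ^ j = ((x ^ j : H) : H ⧸ Z) := (QuotientGroup.mk_pow Z x j).symm
    rw [h2]
    exact le_trans (by exact_mod_cast card_centralizer_quot Z hZ (x ^ j)) (hx j hj hjJ)
  have h2 : Nat.card ({x : H ⧸ Z // ¬ Nice B J x} × Z) ≤ Nat.card {x : H // ¬ Nice B J x} := by
    refine Nat.card_le_card_of_injective (fun p => (⟨p.1.1.out * (p.2 : H), fun hn => p.1.2 ?_⟩ :
      {x : H // ¬ Nice B J x})) ?_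
    · have h3 := h1 _ hn
      have h4 : ((p.1.1.out * (p.2 : H) : H) : H ⧸ Z) = p.1.1 := by
        rw [QuotientGroup.mk_mul_of_mem _ p.2.2, QuotientGroup.out_eq']
      rwa [h4] at h3
    · rintro ⟨⟨a, ha⟩, z⟩ ⟨⟨b, hb⟩, z'⟩ hab
      have h3 : a.out * (z : H) = b.out * (z' : H) := congrArg Subtype.val hab
      have h4 : a = b := by
        have h5 : ((a.out * (z : H) : H) : H ⧸ Z) = ((b.out * (z' : H) : H) : H ⧸ Z) := by rw [h3]
        rw [QuotientGroup.mk_mul_of_mem _ z.2, QuotientGroup.mk_mul_of_mem _ z'.2, QuotientGroup.out_eq',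
          QuotientGroup.out_eq'] at h5
        exact h5
      subst h4
      have h5 := mul_left_cancel h3
      rw [Subtype.ext h5]
  rw [Nat.card_prod] at h2
  have h3 := Subgroup.card_eq_card_quotient_mul_card_subgroup Z
  have hZ0 : (0 : ℝ) < Nat.card Z := by exact_mod_cast Nat.card_pos
  have h4 : (Nat.card {x : H ⧸ Z // ¬ Nice B J x} : ℝ) * Nat.card Z ≤ Nat.card {x : H // ¬ Nice B J x} := by
    exact_mod_cast h2
  have h5 : (Nat.card {x : H // ¬ Nice B J x} : ℝ) ≤ η * Nat.card H := h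
  show (Nat.card {x : H ⧸ Z // ¬ Nice B J x} : ℝ) ≤ η * Nat.card (H ⧸ Z)
  rw [h3] at h5
  push_cast at h5
  refine le_of_mul_le_mul_right ?_ hZ0
  calc _ ≤ _ := h4
    _ ≤ _ := h5
    _ = _ := by ring

theorem typ_sub {I : Type} [Group I] [Finite I] (H : Subgroup I) {B η : ℝ} {J : ℕ} (h : Typ I B J η) :
    Typ H B J ((H ⊔ Subgroup.center I).index * η) := by
  set Z := Subgroup.center I with hZdef
  set K : Subgroup Z := H.subgroupOf Z with hK
  -- numbers
  have hnum : (Nat.card I : ℝ) = (H ⊔ Z).index * K.index * Nat.card H := by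
    have h1 := Subgroup.card_mul_index (H ⊔ Z)
    have h2 : Nat.card (H ⊔ Z : Subgroup I) = Nat.card Z * Z.relIndex (H ⊔ Z) :=
      (card_mul_rel (le_sup_right : Z ≤ H ⊔ Z)).symm
    rw [Subgroup.relIndex_sup_right] at h2
    have h3 : Nat.card H = Nat.card (Z ⊓ H : Subgroup I) * (Z ⊓ H).relIndex H :=
      (card_mul_rel (inf_le_right : Z ⊓ H ≤ H)).symm
    have h4 : Nat.card Z = Nat.card (H ⊓ Z : Subgroup I) * (H ⊓ Z).relIndex Z :=
      (card_mul_rel (inf_le_right : H ⊓ Z ≤ Z)).symm
    rw [Subgroup.inf_relIndex_right] at h3 h4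
    have h5 : H.relIndex Z = K.index := rfl
    rw [h5] at h4
    have h6 : Nat.card I = (H ⊔ Z).index * K.index * Nat.card H := by
      rw [← h1, h2, h4, h3, inf_comm H Z]
      ring
    exact_mod_cast h6
  -- elements
  have hcent : ∀ (x : H) (z : I), z ∈ Z → ¬ Nice B J x → ¬ Nice B J ((x : I) * z) := by
    intro x z hz hx hn
    apply hx
    intro j hj hjJ
    have hc : ∀ y : I, y * z = z * y := fun y => (Subgroup.mem_center_iff.mp hz y)
    have h1 : Subgroup.centralizer ({((x : I) * z) ^ j} : Set I) = Subgroup.centralizer ({((x : I)) ^ j} : Set I) := by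
      have hcj : ∀ y : I, y * z ^ j = z ^ j * y := fun y => (Subgroup.mem_center_iff.mp (Z.pow_mem hz j) y)
      have h2 : ((x : I) * z) ^ j = (x : I) ^ j * z ^ j := (Commute.mul_pow (hc _) j)
      ext y
      rw [Subgroup.mem_centralizer_singleton_iff, Subgroup.mem_centralizer_singleton_iff, h2]
      constructor
      · intro h3
        have h4 : y * (x : I) ^ j * z ^ j = (x : I) ^ j * y * z ^ j := by
          rw [mul_assoc, mul_assoc, hcj y]
          rw [← mul_assoc, ← mul_assoc]
          rw [← mul_assoc] at h3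
          exact h3
        exact mul_right_cancel h4
      · intro h3
        calc y * ((x : I) ^ j * z ^ j) = (y * (x : I) ^ j) * z ^ j := by group
          _ = ((x : I) ^ j * y) * z ^ j := by rw [h3]
          _ = (x : I) ^ j * (y * z ^ j) := by group
          _ = (x : I) ^ j * (z ^ j * y) := by rw [hcj]
          _ = (x : I) ^ j * z ^ j * y := by group
    have h3 := hn j hj hjJ
    rw [h1] at h3
    refine le_trans ?_ h3
    have h4 : Nat.card (Subgroup.centralizer ({x ^ j} : Set H)) ≤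
        Nat.card (Subgroup.centralizer ({(x : I) ^ j} : Set I)) := by
      refine Nat.card_le_card_of_injective (fun y => ⟨((y : H) : I), ?_⟩) ?_
      · have h5 := y.2
        rw [Subgroup.mem_centralizer_singleton_iff] at h5 ⊢
        have h6 := congrArg (Subtype.val : H → I) h5
        simpa using h6
      · intro a b hab
        have h9 : ((a : H) : I) = ((b : H) : I) := by
          simpa only [Subtype.mk.injEq] using hab
        exact Subtype.ext (Subtype.ext h9)
    exact_mod_cast h4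
  have h2 : Nat.card ({x : H // ¬ Nice B J x} × (Z ⧸ K)) ≤ Nat.card {x : I // ¬ Nice B J x} := by
    refine Nat.card_le_card_of_injective (fun p => (⟨(p.1.1 : I) * ((p.2.out : Z) : I),
      hcent _ _ p.2.out.2 p.1.2⟩ : {x : I // ¬ Nice B J x})) ?_
    rintro ⟨⟨a, ha⟩, c⟩ ⟨⟨b, hb⟩, d⟩ hab
    have h3 : (a : I) * ((c.out : Z) : I) = (b : I) * ((d.out : Z) : I) := congrArg Subtype.val hab
    have h4 : c = d := by
      have h5 : (c.out)⁻¹ * d.out ∈ K := by
        show ((c.out : Z) : I)⁻¹ * ((d.out : Z) : I) ∈ H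
        have h6 : ((d.out : Z) : I) = (b : I)⁻¹ * ((a : I) * ((c.out : Z) : I)) := by rw [h3]; group
        have h7 := Subgroup.mem_center_iff.mp (c.out.2) ((b : I)⁻¹ * (a : I))
        have h8 : ((c.out : Z) : I)⁻¹ * ((d.out : Z) : I) = (b : I)⁻¹ * (a : I) := by
          rw [h6, ← mul_assoc (b : I)⁻¹, h7]
          group
        rw [h8]
        exact H.mul_mem (H.inv_mem b.2) a.2
      have h9 := QuotientGroup.eq.mpr h5
      rwa [QuotientGroup.out_eq', QuotientGroup.out_eq'] at h9
    subst h4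
    have h5 := mul_right_cancel h3
    have h6 : a = b := Subtype.ext h5
    subst h6
    rfl
  rw [Nat.card_prod] at h2
  have h3 : (Nat.card {x : H // ¬ Nice B J x} : ℝ) * K.index ≤ Nat.card {x : I // ¬ Nice B J x} := by
    exact_mod_cast h2
  have h5 : (Nat.card {x : I // ¬ Nice B J x} : ℝ) ≤ η * Nat.card I := h
  have hK0 : (0 : ℝ) < K.index := by
    exact_mod_cast Nat.pos_of_ne_zero Subgroup.index_ne_zero_of_finite
  show (Nat.card {x : H // ¬ Nice B J x} : ℝ) ≤ (H ⊔ Z).index * η * Nat.card H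
  refine le_of_mul_le_mul_right ?_ hK0
  calc _ ≤ _ := h3
    _ ≤ _ := h5
    _ = _ := by rw [hnum]; ring

end Cfsg.Agent.H458.RG
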